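import Cfsg.Agent.CosetCert.LyChain1.FactsData
import Cfsg.Agent.CosetCert.LyChain1.JustData
import Cfsg.Agent.CosetCert.LyChain1.TableData
import Cfsg.Prelude.Def_Spor_Ly
import Cfsg.Agent.CosetCert.CoxExtra
import Cfsg.Agent.CosetCert.Pack

/-! Generated: the certificate. -/

set_option maxRecDepth 100000

namespace Cfsg.Agent.CosetCert.LyChain1

noncomputable def data : Data where
  K := 20
  n := 3906
  M := 4402
  Nf := 42743
  nR := 65
  iv := fun x => if x < 10 then x + 10 else if x < 20 then x - 10 else x
  F := get48 factStore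
  J := getVar justStore
  E := get48 edgeStore
  L := get48 repStore
  P := get48 treeStore
  W := [
    [0, 0, 0, 0, 0, 0, 0, 0],
    [1, 1, 1, 1, 1],
    [0, 1, 0, 1, 0, 1, 0, 1],
    [10, 10, 11, 0, 0, 1],
    [10, 11, 0, 1, 10, 11, 0, 1, 10, 11, 0, 1],
    [5, 12],
    [6, 10, 12, 0],
    [7, 11, 12, 1],
    [8, 1, 12, 11],
    [9, 16, 15, 6, 5],
    [5, 5, 5, 5, 5],
    [9, 9, 9, 9, 9],
    [15, 19, 5, 9],
    [16, 19, 6, 9],
    [17, 19, 7, 9],
    [18, 19, 8, 9],
    [15, 17, 5, 7, 9, 9],
    [15, 18, 5, 8, 19, 19],
    [16, 17, 6, 7, 9],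
    [16, 18, 6, 8],
    [17, 18, 7, 8, 9],
    [10, 6, 0, 5, 5],
    [10, 7, 0, 18, 15, 7, 7],
    [10, 8, 0, 18, 15, 18, 7, 6, 15],
    [10, 9, 0, 19, 19],
    [11, 6, 1, 8, 5, 8, 17, 16],
    [11, 7, 1, 7, 7, 18, 15, 15],
    [11, 9, 1, 19],
    [4, 13, 15, 13, 1, 10, 11, 15, 13, 10, 15, 0, 15, 10, 5, 0, 1, 1],
    [4, 4],
    [14, 5, 4, 5, 11, 17, 11],
    [14, 7, 4, 0, 8, 5, 16, 10, 11, 11],
    [14, 8, 4, 18, 7, 11, 11],
    [14, 9, 4, 8, 15, 7, 15],
    [4, 0, 0, 4, 8, 19, 15, 10, 1, 10, 11, 11, 10],
    [14, 1, 4, 8, 8, 7, 15],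
    [4, 0, 1, 1, 0, 11, 0, 4, 8, 19, 15, 10, 10],
    [4, 6, 4, 16, 4, 6, 18, 0, 7, 0, 0, 0],
    [3, 14, 11, 6, 10, 14, 10, 14, 10, 9, 8, 5, 1, 0, 11, 11, 10],
    [3, 3, 10, 10, 10, 10],
    [11, 13, 1, 3],
    [13, 0, 3, 10, 10, 10],
    [3, 9, 3, 9, 3, 9, 3, 9, 3, 9],
    [3, 9, 3, 19, 3, 9, 10, 10],
    [],
    [0, 10],
    [1, 11],
    [2, 12],
    [3, 13],
    [4, 14],
    [5, 15],
    [6, 16],
    [7, 17],
    [8, 18],
    [9, 19],
    [10, 0],
    [11, 1],
    [12, 2],
    [13, 3],
    [14, 4],
    [15, 5],
    [16, 6],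
    [17, 7],
    [18, 8],
    [19, 9],
    [0],
    [1],
    [2],
    [5],
    [6],
    [7],
    [8],
    [9]]
  PW := fun k => Nat.land (Nat.shiftRight 0xa0000000000000000000012000000000000000000002000000000000000000000380000000000000000000060000000000000000000006000000000000000000000800000000000000000000080000000000000000001540000000000000000000266000000000000000000044800000000000000000007880000000000000000000d0000000000000000000015e0000000000000000000238000000000000000000036800000000000000000004c00000000000000000000560000000000000000000a280000000000000000001348000000000000000000248000000000000000000044e00000000000000000008180000000000000000000f280000000000000000001c4000000000000000000034600000000000000000006080000000000000000000b08000000000000000000000000000000000b5a8942288000000000511445114451000000000000000b5ac81700000000000000000209cc000000000000002d6b59082d8c088c952deb7acec7900000000421406672c4a72800000b5c2892858110825000000000000082129289e000002d8c58970a24a1094000000000000208824aa7800000000000031889952f000000000318b899212a1e0000000000000c930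c533c000000000000000000052c2099700c16e83162741c50000000000000000141298000000000002109a10243000000000000464932447600000000000000014a054b000000000020744e130a56000000000000084426142c0000000000000003182758000000000000000a4a2720000000000000000093ce20000000000000002907944000000000000014a24d380000000000000014a41a5000000000000000000a4d260000000000000000148a48000000000000000028f488000000000000000051a9000000000000000014a529400000000000000018c631800000000000000031e11500000000000000000634490000000000000000026b10000000000000000002d59c0000000000000000000d300000001058b1058b1058b00000000000000082162d600000000000041104411040000000000000001084210000000000000842108421 (Nat.mul 87 k)) 0x7fffffffffffffffffffff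
  powers := [
    ([0, 0, 0, 0, 0, 0, 0, 0], 1),
    ([1, 1, 1, 1, 1], 1),
    ([0, 1, 0, 1, 0, 1, 0, 1], 1),
    ([10, 10, 11, 0, 0, 1], 1),
    ([10, 11, 0, 1, 10, 11, 0, 1, 10, 11, 0, 1], 1),
    ([5, 12], 1),
    ([6, 10, 12, 0], 1),
    ([7, 11, 12, 1], 1),
    ([8, 1, 12, 11], 1),
    ([9, 16, 15, 6, 5], 1),
    ([5, 5, 5, 5, 5], 1),
    ([9, 9, 9, 9, 9], 1),
    ([15, 19, 5, 9], 1),
    ([16, 19, 6, 9], 1),
    ([17, 19, 7, 9], 1),
    ([18, 19, 8, 9], 1),
    ([15, 17, 5, 7, 9, 9], 1),
    ([15, 18, 5, 8, 19, 19], 1),
    ([16, 17, 6, 7, 9], 1),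
    ([16, 18, 6, 8], 1),
    ([17, 18, 7, 8, 9], 1),
    ([10, 6, 0, 5, 5], 1),
    ([10, 7, 0, 18, 15, 7, 7], 1),
    ([10, 8, 0, 18, 15, 18, 7, 6, 15], 1),
    ([10, 9, 0, 19, 19], 1),
    ([11, 6, 1, 8, 5, 8, 17, 16], 1),
    ([11, 7, 1, 7, 7, 18, 15, 15], 1),
    ([11, 9, 1, 19], 1),
    ([4, 13, 15, 13, 1, 10, 11, 15, 13, 10, 15, 0, 15, 10, 5, 0, 1, 1], 1),
    ([4, 4], 1),
    ([14, 5, 4, 5, 11, 17, 11], 1),
    ([14, 7, 4, 0, 8, 5, 16, 10, 11, 11], 1),
    ([14, 8, 4, 18, 7, 11, 11], 1),
    ([14, 9, 4, 8, 15, 7, 15], 1),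
    ([4, 0, 0, 4, 8, 19, 15, 10, 1, 10, 11, 11, 10], 1),
    ([14, 1, 4, 8, 8, 7, 15], 1),
    ([4, 0, 1, 1, 0, 11, 0, 4, 8, 19, 15, 10, 10], 1),
    ([4, 6, 4, 16, 4, 6, 18, 0, 7, 0, 0, 0], 1),
    ([3, 14, 11, 6, 10, 14, 10, 14, 10, 9, 8, 5, 1, 0, 11, 11, 10], 1),
    ([3, 3, 10, 10, 10, 10], 1),
    ([11, 13, 1, 3], 1),
    ([13, 0, 3, 10, 10, 10], 1),
    ([3, 9, 3, 9, 3, 9, 3, 9, 3, 9], 1),
    ([3, 9, 3, 19, 3, 9, 10, 10], 1),
    ([], 1),
    ([0, 10], 1),
    ([1, 11], 1),
    ([2, 12], 1),
    ([3, 13], 1),
    ([4, 14], 1),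
    ([5, 15], 1),
    ([6, 16], 1),
    ([7, 17], 1),
    ([8, 18], 1),
    ([9, 19], 1),
    ([10, 0], 1),
    ([11, 1], 1),
    ([12, 2], 1),
    ([13, 3], 1),
    ([14, 4], 1),
    ([15, 5], 1),
    ([16, 6], 1),
    ([17, 7], 1),
    ([18, 8], 1),
    ([19, 9], 1)]

/-- The relators. -/
def relWords : List (List (Fin 10 × Bool)) := [
    [(0, true), (0, true), (0, true), (0, true), (0, true), (0, true), (0, true), (0, true)],
    [(1, true), (1, true), (1, true), (1, true), (1, true)],
    [(0, true), (1, true), (0, true), (1, true), (0, true), (1, true), (0, true), (1, true)],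
    [(0, false), (0, false), (1, false), (0, true), (0, true), (1, true)],
    [(0, false), (1, false), (0, true), (1, true), (0, false), (1, false), (0, true), (1, true), (0, false), (1, false), (0, true), (1, true)],
    [(5, true), (2, false)],
    [(6, true), (0, false), (2, false), (0, true)],
    [(7, true), (1, false), (2, false), (1, true)],
    [(8, true), (1, true), (2, false), (1, false)],
    [(9, true), (6, false), (5, false), (6, true), (5, true)],
    [(5, true), (5, true), (5, true), (5, true), (5, true)],
    [(9, true), (9, true), (9, true), (9, true), (9, true)],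
    [(5, false), (9, false), (5, true), (9, true)],
    [(6, false), (9, false), (6, true), (9, true)],
    [(7, false), (9, false), (7, true), (9, true)],
    [(8, false), (9, false), (8, true), (9, true)],
    [(5, false), (7, false), (5, true), (7, true), (9, true), (9, true)],
    [(5, false), (8, false), (5, true), (8, true), (9, false), (9, false)],
    [(6, false), (7, false), (6, true), (7, true), (9, true)],
    [(6, false), (8, false), (6, true), (8, true)],
    [(7, false), (8, false), (7, true), (8, true), (9, true)],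
    [(0, false), (6, true), (0, true), (5, true), (5, true)],
    [(0, false), (7, true), (0, true), (8, false), (5, false), (7, true), (7, true)],
    [(0, false), (8, true), (0, true), (8, false), (5, false), (8, false), (7, true), (6, true), (5, false)],
    [(0, false), (9, true), (0, true), (9, false), (9, false)],
    [(1, false), (6, true), (1, true), (8, true), (5, true), (8, true), (7, false), (6, false)],
    [(1, false), (7, true), (1, true), (7, true), (7, true), (8, false), (5, false), (5, false)],
    [(1, false), (9, true), (1, true), (9, false)],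
    [(4, true), (3, false), (5, false), (3, false), (1, true), (0, false), (1, false), (5, false), (3, false), (0, false), (5, false), (0, true), (5, false), (0, false), (5, true), (0, true), (1, true), (1, true)],
    [(4, true), (4, true)],
    [(4, false), (5, true), (4, true), (5, true), (1, false), (7, false), (1, false)],
    [(4, false), (7, true), (4, true), (0, true), (8, true), (5, true), (6, false), (0, false), (1, false), (1, false)],
    [(4, false), (8, true), (4, true), (8, false), (7, true), (1, false), (1, false)],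
    [(4, false), (9, true), (4, true), (8, true), (5, false), (7, true), (5, false)],
    [(4, true), (0, true), (0, true), (4, true), (8, true), (9, false), (5, false), (0, false), (1, true), (0, false), (1, false), (1, false), (0, false)],
    [(4, false), (1, true), (4, true), (8, true), (8, true), (7, true), (5, false)],
    [(4, true), (0, true), (1, true), (1, true), (0, true), (1, false), (0, true), (4, true), (8, true), (9, false), (5, false), (0, false), (0, false)],
    [(4, true), (6, true), (4, true), (6, false), (4, true), (6, true), (8, false), (0, true), (7, true), (0, true), (0, true), (0, true)],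
    [(3, true), (4, false), (1, false), (6, true), (0, false), (4, false), (0, false), (4, false), (0, false), (9, true), (8, true), (5, true), (1, true), (0, true), (1, false), (1, false), (0, false)],
    [(3, true), (3, true), (0, false), (0, false), (0, false), (0, false)],
    [(1, false), (3, false), (1, true), (3, true)],
    [(3, false), (0, true), (3, true), (0, false), (0, false), (0, false)],
    [(3, true), (9, true), (3, true), (9, true), (3, true), (9, true), (3, true), (9, true), (3, true), (9, true)],
    [(3, true), (9, true), (3, true), (9, false), (3, true), (9, true), (0, false), (0, false)]]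

/-- The subgroup's generators. -/
def subLetters : List (Fin 10) := [0, 1, 2, 5, 6, 7, 8, 9]

/-- The numbering of the generators. -/
def enc (b : Fin 10) : Nat := b.val

/-- The generator of a number. -/
def dec (x : Nat) : Fin 10 × Bool := if x < 10 then (Fin.ofNat 10 x, true) else (Fin.ofNat 10 x, false)

/-- The generators among those of the Lyons group. -/
def ren : Fin 10 → Cfsg.Spor.Ly.Gen
  | ⟨0, _⟩ => .a
  | ⟨1, _⟩ => .b
  | ⟨2, _⟩ => .c
  | ⟨3, _⟩ => .d
  | ⟨4, _⟩ => .e
  | ⟨5, _⟩ => .c1
  | ⟨6, _⟩ => .c2
  | ⟨7, _⟩ => .c3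
  | ⟨8, _⟩ => .c4
  | ⟨9, _⟩ => .c5

end Cfsg.Agent.CosetCert.LyChain1
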